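import Groth.Agent.Lib.Diag.Core
import Groth.Agent.Lib.IntMult3.Setup

/-! Positivity of the intersection multiplicity. -/

set_option autoImplicit false
set_option linter.style.haveILetI false
set_option maxHeartbeats 1000000

universe u

open CategoryTheory AlgebraicGeometry TopologicalSpace

namespace GrothLib.Diag

variable {K : Type u} [Field K] {X : Scheme.{u}}

theorem affine_data (f : X ⟶ Spec (CommRingCat.of K)) [LocallyOfFiniteType f]
    (I : X.IdealSheafData) [IsIntegral I.subscheme] (s : ℕ) (hs : topologicalKrullDim I.support = s)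
    {U : X.Opens} (hU : IsAffineOpen U) {ξ : X} (hξU : ξ ∈ U) (hξ : ξ ∈ I.support) :
    (I.ideal ⟨U, hU⟩).IsPrime ∧ ringKrullDim (Γ(X, U) ⧸ I.ideal ⟨U, hU⟩) = s ∧
      I.ideal ⟨U, hU⟩ ≤ (hU.primeIdealOf ⟨ξ, hξU⟩).asIdeal := by
  have hr : ξ ∈ Set.range I.subschemeι := by rw [I.range_subschemeι]; exact hξ
  obtain ⟨d, hd⟩ := hr
  have hW : IsAffineOpen (I.subschemeι ⁻¹ᵁ U) := hU.preimage I.subschemeι
  haveI : Nonempty (I.subschemeι ⁻¹ᵁ U) := ⟨⟨d, by show I.subschemeι d ∈ U; rw [hd]; exact hξU⟩⟩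
  have hk := I.ker_subschemeι_app ⟨U, hU⟩
  let e := (Ideal.quotEquivOfEq hk.symm).trans
    (RingHom.quotientKerEquivOfSurjective (I.subschemeι_app_surjective ⟨U, hU⟩))
  refine ⟨hk ▸ RingHom.ker_isPrime _, ?_, ?_⟩
  · rw [ringKrullDim_eq_of_ringEquiv e, ← PrimeSpectrum.topologicalKrullDim_eq_ringKrullDim]
    refine (hW.isoSpec.hom.homeomorph.isHomeomorph.topologicalKrullDim_eq).symm.trans ?_
    refine (GrothLib.DimCut.dim_opens_eq (I.subschemeι ≫ f) (I.subschemeι ⁻¹ᵁ U) inferInstance).trans ?_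
    rw [(I.subschemeι.isEmbedding.toHomeomorph.trans
      (Homeomorph.setCongr I.range_subschemeι)).isHomeomorph.topologicalKrullDim_eq]
    exact hs
  · intro a ha
    let _ := TopCat.Presheaf.algebra_section_stalk X.presheaf (⟨ξ, hξU⟩ : U)
    haveI := hU.isLocalization_stalk ⟨ξ, hξU⟩
    by_contra hne
    refine GrothLib.IntMult3.stalkIdeal_ne_top I hξ ?_
    rw [GrothLib.IntMult3.stalkIdeal_eq, GrothLib.CartierDescent.stalkIdeal_eq I ⟨U, hU⟩ hξU]
    exact Ideal.eq_top_of_isUnit_mem _ (Ideal.mem_map_of_mem _ ha)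
      (IsLocalization.map_units (X.presheaf.stalk ξ) (⟨a, hne⟩ : (hU.primeIdealOf ⟨ξ, hξU⟩).asIdeal.primeCompl))

/-- Intersection multiplicities are positive. -/
theorem mult_pos [IsAlgClosed K] (f : X ⟶ Spec (CommRingCat.of K)) [Smooth f] [IsIntegral X]
    (IV IW : X.IdealSheafData) [IsIntegral IV.subscheme] [IsIntegral IW.subscheme]
    (n r s : ℕ) (hn : topologicalKrullDim X = n) (hr : topologicalKrullDim IV.support = r)
    (hs : topologicalKrullDim IW.support = s)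
    (hprop : IntMult.ProperInt (IV.support : Set X) (IW.support : Set X) n r s) (ξ : X) (hξV : ξ ∈ IV.support)
    (hξW : ξ ∈ IW.support) (hmax : ∀ ξ' : X, ξ' ∈ IV.support → ξ' ∈ IW.support → ξ' ⤳ ξ → ξ' = ξ) :
    0 < IntMult.mult IV IW ξ := by
  haveI : IsLocallyNoetherian X := LocallyOfFiniteType.isLocallyNoetherian f
  obtain ⟨_, ⟨U, hU, rfl⟩, hξU, -⟩ :=
    X.isBasis_affineOpens.exists_subset_of_mem_open (Set.mem_univ ξ) isOpen_univ
  have hU : IsAffineOpen U := hU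
  haveI : Nonempty U := ⟨⟨ξ, hξU⟩⟩
  obtain ⟨ψ, hψ, hψ'⟩ := GrothLib.Dim.exists_finiteType_specMap f hU
  have hsm : ψ.hom.Smooth := by
    rw [← HasRingHomProperty.Spec_iff (P := @Smooth), ← hψ']
    infer_instance
  algebraize [ψ.hom]
  haveI : Algebra.FiniteType K Γ(X, U) := hψ
  haveI : Algebra.Smooth K Γ(X, U) := hsm
  let _ := TopCat.Presheaf.algebra_section_stalk X.presheaf (⟨ξ, hξU⟩ : U)
  haveI := hU.isLocalization_stalk ⟨ξ, hξU⟩
  let P := (hU.primeIdealOf ⟨ξ, hξU⟩).asIdeal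
  obtain ⟨hp, hpd, hpP⟩ := affine_data f IV r hr hU hξU hξV
  obtain ⟨hq, hqd, hqP⟩ := affine_data f IW s hs hU hξU hξW
  have hV : IntMult.stalkIdeal IV ξ = (IV.ideal ⟨U, hU⟩).map (algebraMap Γ(X, U) (X.presheaf.stalk ξ)) := by
    rw [GrothLib.IntMult3.stalkIdeal_eq, GrothLib.CartierDescent.stalkIdeal_eq IV ⟨U, hU⟩ hξU]; rfl
  have hW : IntMult.stalkIdeal IW ξ = (IW.ideal ⟨U, hU⟩).map (algebraMap Γ(X, U) (X.presheaf.stalk ξ)) := by
    rw [GrothLib.IntMult3.stalkIdeal_eq, GrothLib.CartierDescent.stalkIdeal_eq IW ⟨U, hU⟩ hξU]; rfl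
  have hfin := GrothLib.IntMult3.length_ne_top IV IW ξ hξV hξW hmax
  rw [hV, hW] at hfin
  show 0 < IntMult.chi _ _ _
  rw [hV, hW]
  refine @chi_pos_affine K _ Γ(X, U) _ _ _ _ _ P _ _ _ _ hp hq hpP hqP (X.presheaf.stalk ξ) _ _ _ hfin ?_
  have hR : ringKrullDim Γ(X, U) = n := by
    rw [← PrimeSpectrum.topologicalKrullDim_eq_ringKrullDim]
    refine (hU.isoSpec.hom.homeomorph.isHomeomorph.topologicalKrullDim_eq).symm.trans ?_
    exact (GrothLib.DimCut.dim_opens_eq f U inferInstance).trans hn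
  have hP : GrothLib.AffDom.ptDim ξ = ringKrullDim (Γ(X, U) ⧸ P) := by
    rw [← GrothLib.AffDom.ptDim_fromSpec f hU]
    exact (congrArg GrothLib.AffDom.ptDim (hU.fromSpec_primeIdealOf ⟨ξ, hξU⟩)).symm
  obtain ⟨hnrs, hdim⟩ := hprop ⟨ξ, hξV, hξW⟩
  have h4 := (GrothLib.DimCut.ptDim_le_dim_closed (IV.support.isClosed.inter IW.support.isClosed)
    (x := ξ) ⟨hξV, hξW⟩).trans hdim
  rw [hP] at h4
  rw [hR, hpd, hqd]
  calc (n : WithBot ℕ∞) + ringKrullDim (Γ(X, U) ⧸ P) ≤ (n : WithBot ℕ∞) + ((r + s - n : ℕ) : WithBot ℕ∞) :=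
        add_le_add le_rfl h4
    _ = ((r + s : ℕ) : WithBot ℕ∞) := by rw [← Nat.cast_add, Nat.add_sub_cancel' hnrs]
    _ = _ := by push_cast; rfl

end GrothLib.Diag
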