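import Groth.Agent.Lib.Diag.Balance
import Groth.Agent.Lib.KoszulEuler.Main
import Groth.Agent.Lib.FlatFP.TorShift
import Mathlib.RingTheory.RingHom.Flat
import Mathlib.RingTheory.TensorProduct.Quotient

/-! Reduction to the diagonal. -/

set_option autoImplicit false
set_option linter.style.haveILetI false
set_option maxHeartbeats 800000

universe u

open CategoryTheory CategoryTheory.Limits MonoidalCategory HomologicalComplex GrothLib.KoszulMod TensorProduct
  GrothLib.KoszulEuler RingTheory.Sequence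

namespace GrothLib.Diag

theorem nonempty_koszulCx_congr {B : Type u} [CommRing B] {M M' : ModuleCat.{u} B} (e : M ≅ M') (l : List B) :
    Nonempty (CohIII.koszulCx M l ≅ CohIII.koszulCx M' l) := by
  obtain ⟨e₁⟩ := nonempty_tensor_iso M l
  obtain ⟨e₂⟩ := nonempty_tensor_iso M' l
  exact ⟨e₁.symm ≪≫
    (NatIso.mapHomologicalComplex ((tensoringRight (ModuleCat.{u} B)).mapIso e) (ComplexShape.up ℤ)).app _ ≪≫ e₂⟩

variable {O B : Type u} [CommRing O] [CommRing B]

/-- Lengths over a ring with the same orbits. -/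
theorem length_res_eq [Algebra O B] (M : ModuleCat.{u} B) (h : ∀ (b : B) (m : M), ∃ a : O, algebraMap O B a • m = b • m) :
    Module.length O ((res (A := O)).obj M) = Module.length B M := by
  let e : Submodule O ((res (A := O)).obj M) ≃o Submodule B M :=
    { toFun := fun S =>
        { carrier := {m : M | m ∈ S}
          add_mem' := fun ha hb => S.add_mem ha hb
          zero_mem' := S.zero_mem
          smul_mem' := fun b m hm => by
            obtain ⟨a, ha⟩ := h b m
            rw [← ha]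
            exact S.smul_mem a hm }
      invFun := fun T =>
        { carrier := {m | (m : M) ∈ T}
          add_mem' := fun ha hb => T.add_mem ha hb
          zero_mem' := T.zero_mem
          smul_mem' := fun a _ hm => T.smul_mem (algebraMap O B a) hm }
      left_inv := fun _ => rfl
      right_inv := fun _ => rfl
      map_rel_iff' := Iff.rfl }
  apply WithBot.coe_injective
  rw [Module.coe_length, Module.coe_length, Order.krullDim_eq_of_orderIso e]

/-- The setting: `B` with two structures over `O` and a common retraction. -/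
structure Setting (O B : Type u) [CommRing O] [CommRing B] where
  il : O →+* B
  ir : O →+* B
  μ : B →+* O
  g : List B
  μl : ∀ a, μ (il a) = a
  μr : ∀ a, μ (ir a) = a
  ker : RingHom.ker μ = Ideal.ofList g
  reg : IsWeaklyRegular B g
  flat : il.Flat

variable (D : Setting O B)

theorem Setting.sub_mem (b : B) (a : O) (h : D.μ b = a) : b - D.il a ∈ Ideal.ofList D.g ∧ b - D.ir a ∈ Ideal.ofList D.g := by
  rw [← D.ker, RingHom.mem_ker, RingHom.mem_ker, map_sub, map_sub, D.μl, D.μr, h, sub_self]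
  exact ⟨rfl, rfl⟩

/-- The `O`-module `B / (J + ker μ)`. -/
theorem Setting.nonempty_quot_equiv [Algebra O B] (hs : ∀ a, D.μ (algebraMap O B a) = a) (J : Ideal B) :
    Nonempty ((O ⧸ J.map D.μ) ≃ₗ[O] (res (A := O)).obj
      (ModuleCat.of B ((B ⧸ J) ⧸ (Ideal.ofList D.g • (⊤ : Submodule B (B ⧸ J)))))) := by
  refine ⟨?_⟩
  let T := (res (A := O)).obj (ModuleCat.of B ((B ⧸ J) ⧸ (Ideal.ofList D.g • (⊤ : Submodule B (B ⧸ J)))))
  let φ : O →ₗ[O] T := LinearMap.toSpanSingleton O T (Submodule.Quotient.mk (Submodule.Quotient.mk 1))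
  have hφ : ∀ a, φ a = Submodule.Quotient.mk (Submodule.Quotient.mk (algebraMap O B a)) := fun a => by
    show algebraMap O B a • (Submodule.Quotient.mk (Submodule.Quotient.mk 1) :
      (B ⧸ J) ⧸ (Ideal.ofList D.g • (⊤ : Submodule B (B ⧸ J)))) = _
    rw [← Submodule.Quotient.mk_smul, ← Submodule.Quotient.mk_smul, smul_eq_mul, mul_one]
  have key : ∀ b, (Submodule.Quotient.mk (Submodule.Quotient.mk b) :
      (B ⧸ J) ⧸ (Ideal.ofList D.g • (⊤ : Submodule B (B ⧸ J)))) = 0 ↔ b ∈ J ⊔ Ideal.ofList D.g := by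
    intro b
    rw [Submodule.Quotient.mk_eq_zero, show (⊤ : Submodule B (B ⧸ J)) = Submodule.map (Submodule.mkQ J) ⊤ by
      rw [Submodule.map_top, Submodule.range_mkQ], ← Submodule.map_smul'', Ideal.smul_eq_mul, Ideal.mul_top]
    exact (Submodule.ext_iff.1 (Submodule.comap_map_mkQ J (Ideal.ofList D.g))) b
  have hsurj : Function.Surjective φ := fun t => by
    obtain ⟨t, rfl⟩ := Submodule.Quotient.mk_surjective _ t
    obtain ⟨b, rfl⟩ := Submodule.Quotient.mk_surjective _ t
    refine ⟨D.μ b, ?_⟩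
    rw [hφ]
    show (Submodule.Quotient.mk (Submodule.Quotient.mk (algebraMap O B (D.μ b))) :
      (B ⧸ J) ⧸ (Ideal.ofList D.g • (⊤ : Submodule B (B ⧸ J)))) = Submodule.Quotient.mk (Submodule.Quotient.mk b)
    refine sub_eq_zero.1 ?_
    rw [← Submodule.Quotient.mk_sub, ← Submodule.Quotient.mk_sub, key]
    refine Ideal.mem_sup_right ?_
    rw [← D.ker, RingHom.mem_ker, map_sub, hs, sub_self]
  have hμs : Function.Surjective D.μ := fun a => ⟨_, D.μl a⟩
  have hker : LinearMap.ker φ = J.map D.μ := by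
    ext a
    rw [LinearMap.mem_ker, hφ]
    refine (key _).trans ?_
    rw [← D.ker, RingHom.ker_eq_comap_bot, ← Ideal.comap_map_of_surjective D.μ hμs, Ideal.mem_comap, hs]
  exact (Submodule.quotEquivOfEq _ _ hker.symm).trans (LinearMap.quotKerEquivOfSurjective φ hsurj)

theorem Setting.map_μ_il (p : Ideal O) : (p.map D.il).map D.μ = p := by
  rw [Ideal.map_map, show D.μ.comp D.il = RingHom.id O from RingHom.ext D.μl, Ideal.map_id]

theorem Setting.map_μ_ir (p : Ideal O) : (p.map D.ir).map D.μ = p := by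
  rw [Ideal.map_map, show D.μ.comp D.ir = RingHom.id O from RingHom.ext D.μr, Ideal.map_id]

/-- The module on which the Koszul complex computes Tor. -/
abbrev Setting.T (p q : Ideal O) : ModuleCat.{u} B := ModuleCat.of B (B ⧸ (p.map D.il ⊔ q.map D.ir))

theorem Setting.acyclic (p : Ideal O) (j : ℤ) (hj : j ≠ 0) :
    IsZero ((CohIII.koszulCx (ModuleCat.of B (B ⧸ p.map D.il)) D.g).homology j) := by
  rcases lt_or_gt_of_ne hj with hneg | hpos
  · letI : Algebra O B := D.il.toAlgebra
    haveI : Module.Flat O B := D.flat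
    haveI : Module.Flat O ((res (A := O)).obj (ModuleCat.of B B)) := Module.Flat.of_linearEquiv (resEquiv B).symm
    obtain ⟨k, rfl⟩ : ∃ k : ℕ, j = -((k + 1 : ℕ) : ℤ) := ⟨(-j - 1).toNat, by omega⟩
    have hex : ∀ j : ℤ, j ≠ 0 → IsZero ((CohIII.koszulCx (ModuleCat.of B B) D.g).homology j) :=
      fun j hj => isZero_homology_of_isWeaklyRegular (ModuleCat.of B B) D.g D.reg j hj
    have h := length_tor_of_acyclic (A := O) (ModuleCat.of B B) D.g hex (O ⧸ p) k
    let e₀ : ModuleCat.of B B ⊗ ModuleCat.of B (B ⊗[O] (O ⧸ p)) ≅ ModuleCat.of B (B ⧸ p.map D.il) :=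
      λ_ _ ≪≫ ((Algebra.TensorProduct.quotIdealMapEquivTensorQuot B p).toLinearEquiv.symm.trans
        (Submodule.quotEquivOfEq _ (p.map D.il) rfl)).toModuleIso
    obtain ⟨e⟩ := nonempty_koszulCx_congr e₀ D.g
    refine IsZero.of_iso ?_ ((homologyFunctor _ _ _).mapIso e).symm
    let Z := (res (A := O)).obj (ModuleCat.of B (B ⧸ (Ideal.ofList D.g • (⊤ : Submodule B B))))
    haveI : Module.Flat O Z := by
      obtain ⟨e₁⟩ := D.nonempty_quot_equiv D.μl ⊥
      let e₂ : (B ⧸ (Ideal.ofList D.g • (⊤ : Submodule B B))) ≃ₗ[B]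
          ((B ⧸ (⊥ : Ideal B)) ⧸ (Ideal.ofList D.g • (⊤ : Submodule B (B ⧸ (⊥ : Ideal B))))) :=
        Submodule.Quotient.equiv _ _ (Submodule.quotEquivOfEqBot (⊥ : Ideal B) rfl).symm (by
          rw [Submodule.map_smul'', Submodule.map_top, LinearEquiv.range])
      exact Module.Flat.of_linearEquiv (M := O)
        (((res (A := O)).mapIso e₂.toModuleIso).toLinearEquiv.trans
          (e₁.symm.trans (Submodule.quotEquivOfEqBot _ (Ideal.map_bot (f := D.μ)))))
    have hz : Module.length O (DRing.Tor O (k + 1) (O ⧸ p) Z) = 0 := by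
      rw [length_tor_comm]
      haveI := ModuleCat.subsingleton_of_isZero
        (GrothLib.FlatFP.isZero_tor_succ_of_flat (ModuleCat.of O Z) (ModuleCat.of O (O ⧸ p)) k)
      exact Module.length_eq_zero
    have h0 : Module.length O ((res (A := O)).obj
        ((CohIII.koszulCx (ModuleCat.of B B ⊗ ModuleCat.of B (B ⊗[O] (O ⧸ p))) D.g).homology (-((k + 1 : ℕ) : ℤ)))) = 0 :=
      h.symm.trans hz
    haveI := Module.length_eq_zero_iff.1 h0
    exact ModuleCat.isZero_iff_subsingleton.2
      (inferInstanceAs (Subsingleton ((res (A := O)).obj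
        ((CohIII.koszulCx (ModuleCat.of B B ⊗ ModuleCat.of B (B ⊗[O] (O ⧸ p))) D.g).homology (-((k + 1 : ℕ) : ℤ))))))
  · refine (exactAt_iff_isZero_homology _ _).1 (ExactAt.of_isZero ?_)
    exact isZero_out _ D.g j (Or.inl hpos)

/-- `B/I ⊗ B/J = B/(I + J)`. -/
noncomputable def quotientTensorEquiv (I J : Ideal B) : ((B ⧸ I) ⊗[B] (B ⧸ J)) ≃ₗ[B] B ⧸ (I ⊔ J) :=
  let φ : B →ₗ[B] (B ⧸ J) ⧸ (I • (⊤ : Submodule B (B ⧸ J))) := (Submodule.mkQ _).comp (Submodule.mkQ J)
  have hk : LinearMap.ker φ = I ⊔ J := by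
    rw [LinearMap.ker_comp, Submodule.ker_mkQ,
      show (⊤ : Submodule B (B ⧸ J)) = Submodule.map (Submodule.mkQ J) ⊤ by rw [Submodule.map_top, Submodule.range_mkQ],
      ← Submodule.map_smul'', Submodule.comap_map_mkQ, Ideal.smul_eq_mul, Ideal.mul_top, sup_comm]
  (TensorProduct.quotTensorEquivQuotSMul (B ⧸ J) I).trans
    ((LinearMap.quotKerEquivOfSurjective φ ((Submodule.mkQ_surjective _).comp (Submodule.mkQ_surjective _))).symm.trans
      (Submodule.quotEquivOfEq _ _ hk))

/-- Reduction to the diagonal, on lengths. -/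
theorem Setting.length_tor_eq (p q : Ideal O) (hflat : ((Ideal.Quotient.mk (p.map D.il)).comp D.ir).Flat) (i : ℕ) :
    Module.length O (DRing.Tor O i (O ⧸ q) (O ⧸ p)) =
      Module.length B (HQ (CohIII.koszulCx (D.T p q) D.g) (-(i : ℤ))) := by
  letI : Algebra O B := D.ir.toAlgebra
  have hres : ∀ (M : ModuleCat.{u} B), (∀ a ∈ Ideal.ofList D.g, ∀ m : M, a • m = 0) →
      Module.length O ((res (A := O)).obj M) = Module.length B M := fun M hM => length_res_eq M fun b m =>
    ⟨D.μ b, (sub_eq_zero.1 ((sub_smul _ _ m).symm.trans (hM _ (D.sub_mem b _ rfl).2 m))).symm⟩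
  rcases i with _ | k
  · rw [Nat.cast_zero, neg_zero, ← length_homology]
    obtain ⟨e⟩ := nonempty_homology_zero_equiv (D.T p q) D.g
    rw [e.length_eq]
    obtain ⟨e₁⟩ := D.nonempty_quot_equiv D.μr (p.map D.il ⊔ q.map D.ir)
    refine Eq.trans ?_ (hres (ModuleCat.of B ((B ⧸ (p.map D.il ⊔ q.map D.ir)) ⧸
      (Ideal.ofList D.g • (⊤ : Submodule B (B ⧸ (p.map D.il ⊔ q.map D.ir))))))
      fun a ha m => by
        obtain ⟨m, rfl⟩ := Submodule.Quotient.mk_surjective _ m
        exact (Submodule.Quotient.mk_eq_zero _).2 (Submodule.smul_mem_smul ha trivial))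
    refine Eq.trans ?_ e₁.length_eq
    rw [Ideal.map_sup, D.map_μ_il, D.map_μ_ir]
    refine (torZeroEquiv (O ⧸ q) (O ⧸ p) ≪≫ₗ TensorProduct.quotTensorEquivQuotSMul (O ⧸ p) q).length_eq.trans ?_
    let φ : O →ₗ[O] (O ⧸ p) ⧸ (q • (⊤ : Submodule O (O ⧸ p))) := (Submodule.mkQ _).comp (Submodule.mkQ p)
    have hk : LinearMap.ker φ = p ⊔ q := by
      rw [LinearMap.ker_comp, Submodule.ker_mkQ,
        show (⊤ : Submodule O (O ⧸ p)) = Submodule.map (Submodule.mkQ p) ⊤ by rw [Submodule.map_top, Submodule.range_mkQ],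
        ← Submodule.map_smul'', Submodule.comap_map_mkQ, Ideal.smul_eq_mul, Ideal.mul_top]
    exact ((LinearMap.quotKerEquivOfSurjective φ ((Submodule.mkQ_surjective _).comp
      (Submodule.mkQ_surjective _))).symm.trans (Submodule.quotEquivOfEq _ _ hk)).length_eq
  · let Y := ModuleCat.of B (B ⧸ p.map D.il)
    haveI : Module.Flat O ((res (A := O)).obj Y) := by
      letI := ((Ideal.Quotient.mk (p.map D.il)).comp D.ir).toAlgebra
      haveI : Module.Flat O (B ⧸ p.map D.il) := hflat
      refine Module.Flat.of_linearEquiv (M := B ⧸ p.map D.il)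
        { toFun := fun y => y, invFun := fun y => y, left_inv := fun _ => rfl, right_inv := fun _ => rfl,
          map_add' := fun _ _ => rfl, map_smul' := fun a y => ?_ }
      obtain ⟨y, rfl⟩ := Submodule.Quotient.mk_surjective _ y
      rfl
    obtain ⟨e₁⟩ := D.nonempty_quot_equiv D.μr (p.map D.il)
    let e₂ : (O ⧸ p) ≃ₗ[O] _ := (Submodule.quotEquivOfEq _ _ (D.map_μ_il p).symm).trans e₁
    have h := length_tor_of_acyclic (A := O) Y D.g (D.acyclic p) (O ⧸ q) k
    have hT : Module.length O (DRing.Tor O (k + 1) (O ⧸ q) (O ⧸ p)) = Module.length O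
        (DRing.Tor O (k + 1) (O ⧸ q) ((res (A := O)).obj (ModuleCat.of B (Y ⧸ (Ideal.ofList D.g • (⊤ : Submodule B Y)))))) :=
      (((Tor (ModuleCat.{u} O) (k + 1)).obj (ModuleCat.of O (O ⧸ q))).mapIso e₂.toModuleIso).toLinearEquiv.length_eq
    rw [hT]
    refine h.trans ?_
    let e₃ : Y ⊗ ModuleCat.of B (B ⊗[O] (O ⧸ q)) ≅ D.T p q :=
      (TensorProduct.congr (LinearEquiv.refl B (B ⧸ p.map D.il))
          ((Algebra.TensorProduct.quotIdealMapEquivTensorQuot B q).toLinearEquiv.symm.trans (Submodule.quotEquivOfEq _ (q.map D.ir) rfl))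
        ≪≫ₗ (quotientTensorEquiv (p.map D.il) (q.map D.ir))).toModuleIso
    obtain ⟨e⟩ := nonempty_koszulCx_congr e₃ D.g
    obtain ⟨e₄⟩ := nonempty_HQ_equiv (CohIII.koszulCx (D.T p q) D.g) (-((k + 1 : ℕ) : ℤ))
    refine ((res (A := O)).mapIso ((homologyFunctor _ _ _).mapIso e ≪≫ e₄.toModuleIso)).toLinearEquiv.length_eq.trans ?_
    exact hres (ModuleCat.of B (HQ (CohIII.koszulCx (D.T p q) D.g) (-((k + 1 : ℕ) : ℤ))))
      (fun a ha m => smul_HQ_eq_zero _ D.g ha _ m)

/-- Reduction to the diagonal. -/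
theorem Setting.chi_eq (p q : Ideal O) (hflat : ((Ideal.Quotient.mk (p.map D.il)).comp D.ir).Flat) :
    IntMult.chi O (O ⧸ q) (O ⧸ p) = KoszulEuler.chi (D.T p q) D.g := by
  classical
  rw [IntMult.chi, finsum_eq_sum_of_support_subset _ (s := Finset.range (D.g.length + 1)) ?_, KoszulEuler.chi,
    finsum_eq_sum_of_support_subset _ (s := (Finset.range (D.g.length + 1)).image fun i : ℕ => -(i : ℤ)) ?_,
    Finset.sum_image (g := fun i : ℕ => -(i : ℤ)) fun a _ b _ (h : -(a : ℤ) = -(b : ℤ)) => by omega]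
  · refine Finset.sum_congr rfl fun i _ => ?_
    rw [D.length_tor_eq p q hflat i, Int.negOnePow_neg, ← Int.coe_negOnePow_natCast]
    rfl
  · intro i hi
    rw [Function.mem_support] at hi
    rw [Finset.coe_image, Set.mem_image]
    by_contra hne
    refine hi ?_
    rw [ln_eq_zero _ D.g i ?_, Nat.cast_zero, mul_zero]
    by_contra hc
    simp only [not_or, not_lt] at hc
    exact hne ⟨(-i).toNat, Finset.mem_coe.2 (Finset.mem_range.2 (by omega)), by omega⟩
  · intro i hi
    rw [Function.mem_support] at hi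
    refine Finset.mem_coe.2 (Finset.mem_range.2 ?_)
    by_contra hc
    haveI := subsingleton_HQ (D.T p q) D.g (-(i : ℤ)) (Or.inr (by omega))
    exact hi (by rw [D.length_tor_eq p q hflat i, Module.length_eq_zero]; simp)

end GrothLib.Diag
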