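import Groth.Agent.Lib.Diag.Abstract
import Groth.Agent.Lib.RegSeqLoc.Scheme
import Groth.Agent.Lib.Serre.Smooth
import Groth.Agent.Lib.GrpSchField.TensorDomain
import Groth.Agent.Lib.DimProd.Basic
import Groth.Agent.Lib.AffDom.Formula
import Groth.Agent.Lib.Altitude.Scheme

/-! The diagonal setting at a prime of a smooth affine variety. -/

set_option autoImplicit false
set_option linter.style.haveILetI false
set_option maxHeartbeats 1000000
set_option linter.unusedSectionVars false

universe u

open TensorProduct RingTheory.Sequence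

namespace GrothLib.Diag

variable (K : Type u) [Field K] {R : Type u} [CommRing R] [Algebra K R]

theorem flat_includeRight (A C : Type u) [CommRing A] [Algebra K A] [CommRing C] [Algebra K C] :
    (Algebra.TensorProduct.includeRight : C →ₐ[K] A ⊗[K] C).toRingHom.Flat := by
  have h1 : (algebraMap C (C ⊗[K] A)).Flat :=
    RingHom.flat_algebraMap_iff.2 inferInstance
  have h2 := RingHom.Flat.comp h1 (RingHom.Flat.of_bijective
    (f := (Algebra.TensorProduct.comm K C A).toAlgHom.toRingHom) (Algebra.TensorProduct.comm K C A).bijective)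
  convert h2 using 1
  ext c
  simp [Algebra.TensorProduct.algebraMap_apply]

/-- The flatness hypothesis of `Setting.chi_eq`. -/
def FlatMod {O B : Type u} [CommRing O] [CommRing B] (J : Ideal B) (ir : O →+* B) : Prop :=
  ((Ideal.Quotient.mk J).comp ir).Flat

/-- The flatness hypothesis of `Setting.chi_eq`, for the left image of an ideal. -/
abbrev QuotFlat {O B : Type u} [CommRing O] [CommRing B] (il ir : O →+* B) (p : Ideal O) : Prop :=
  FlatMod (p.map il) ir

theorem ker_map_quot (A : Type u) [CommRing A] [Algebra K A] (p q : Ideal A) :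
    RingHom.ker (Algebra.TensorProduct.map (Ideal.Quotient.mkₐ K p) (Ideal.Quotient.mkₐ K q)) =
      p.map (Algebra.TensorProduct.includeLeft : A →ₐ[K] A ⊗[K] A) ⊔
        q.map (Algebra.TensorProduct.includeRight : A →ₐ[K] A ⊗[K] A) := by
  rw [Algebra.TensorProduct.map_ker _ _ (Ideal.Quotient.mkₐ_surjective K p) (Ideal.Quotient.mkₐ_surjective K q)]
  congr 1 <;> congr 1 <;> exact Ideal.Quotient.mkₐ_ker K _

theorem map_quot_surjective (A : Type u) [CommRing A] [Algebra K A] (p q : Ideal A) :
    Function.Surjective (Algebra.TensorProduct.map (Ideal.Quotient.mkₐ K p) (Ideal.Quotient.mkₐ K q)) :=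
  TensorProduct.map_surjective (Ideal.Quotient.mkₐ_surjective K p) (Ideal.Quotient.mkₐ_surjective K q)

/-- The product of two subvarieties. -/
noncomputable def quotEquiv (A : Type u) [CommRing A] [Algebra K A] (p q : Ideal A) :
    ((A ⊗[K] A) ⧸ (p.map (Algebra.TensorProduct.includeLeft : A →ₐ[K] A ⊗[K] A) ⊔
        q.map (Algebra.TensorProduct.includeRight : A →ₐ[K] A ⊗[K] A))) ≃+* (A ⧸ p) ⊗[K] (A ⧸ q) :=
  (Ideal.quotEquivOfEq (ker_map_quot K A p q).symm).trans
    (RingHom.quotientKerEquivOfSurjective (map_quot_surjective K A p q))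

/-- The multiplication. -/
noncomputable abbrev mulHom (R : Type u) [CommRing R] [Algebra K R] : R ⊗[K] R →+* R :=
  (Algebra.TensorProduct.lmul' K (S := R)).toRingHom

/-- The left inclusion. -/
noncomputable abbrev inL (R : Type u) [CommRing R] [Algebra K R] : R →+* R ⊗[K] R :=
  Algebra.TensorProduct.includeLeftRingHom

/-- The right inclusion. -/
noncomputable abbrev inR (R : Type u) [CommRing R] [Algebra K R] : R →+* R ⊗[K] R :=
  (Algebra.TensorProduct.includeRight : R →ₐ[K] R ⊗[K] R).toRingHom

theorem mul_inL : (mulHom K R).comp (inL K R) = RingHom.id R := RingHom.ext fun a => by simp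
theorem mul_inR : (mulHom K R).comp (inR K R) = RingHom.id R := RingHom.ext fun a => by simp

theorem ker_map_left (A : Type u) [CommRing A] [Algebra K A] (p : Ideal A) :
    RingHom.ker (Algebra.TensorProduct.map (Ideal.Quotient.mkₐ K p) (AlgHom.id K A)).toRingHom =
      p.map (Algebra.TensorProduct.includeLeft : A →ₐ[K] A ⊗[K] A) := by
  refine (Algebra.TensorProduct.map_ker (Ideal.Quotient.mkₐ K p) (AlgHom.id K A)
    (Ideal.Quotient.mkₐ_surjective K p) Function.surjective_id).trans ?_
  have h2 : RingHom.ker (AlgHom.id K A) = ⊥ := (RingHom.ker_eq_bot_iff_eq_zero _).2 fun x hx => hx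
  rw [h2, Ideal.map_bot, sup_bot_eq]
  congr 1
  exact Ideal.Quotient.mkₐ_ker K p

theorem flat_left_quot (A : Type u) [CommRing A] [Algebra K A] (p : Ideal A) :
    ((Ideal.Quotient.mk (p.map (inL K A))).comp (inR K A)).Flat := by
  let π : A ⊗[K] A →+* (A ⧸ p) ⊗[K] A :=
    (Algebra.TensorProduct.map (Ideal.Quotient.mkₐ K p) (AlgHom.id K A)).toRingHom
  have hπ : Function.Surjective π :=
    TensorProduct.map_surjective (Ideal.Quotient.mkₐ_surjective K p) Function.surjective_id
  have hk : RingHom.ker π = p.map (inL K A) := ker_map_left K A p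
  let e := (Ideal.quotEquivOfEq hk.symm).trans (RingHom.quotientKerEquivOfSurjective hπ)
  have h := RingHom.Flat.comp (flat_includeRight K (A ⧸ p) A)
    (RingHom.Flat.of_bijective (f := e.symm.toRingHom) e.symm.bijective)
  convert h using 1
  refine RingHom.ext fun r => ?_
  show Ideal.Quotient.mk _ (inR K A r) = e.symm ((1 : A ⧸ p) ⊗ₜ r)
  rw [RingEquiv.eq_symm_apply]
  rfl

theorem flat_loc_quot {A S L : Type u} [CommRing A] [CommRing S] [CommRing L] [Algebra S L] (M : Submonoid S)
    [IsLocalization M L] (I : Ideal S) (g : A →+* S) (h : ((Ideal.Quotient.mk I).comp g).Flat) :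
    ((Ideal.Quotient.mk (I.map (algebraMap S L))).comp ((algebraMap S L).comp g)).Flat := by
  let φ := Ideal.quotientMap (I.map (algebraMap S L)) (algebraMap S L) Ideal.le_comap_map
  letI := φ.toAlgebra
  haveI : IsLocalization (M.map (Ideal.Quotient.mk I)) (L ⧸ I.map (algebraMap S L)) :=
    IsLocalization.of_surjective (S := L) M (Ideal.Quotient.mk I) Ideal.Quotient.mk_surjective
      (Ideal.Quotient.mk _) Ideal.Quotient.mk_surjective (RingHom.ext fun r => rfl) (by rw [Ideal.mk_ker, Ideal.mk_ker])
  have h2 : (algebraMap (S ⧸ I) (L ⧸ I.map (algebraMap S L))).Flat :=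
    RingHom.flat_algebraMap_iff.2 (IsLocalization.flat _ (M.map (Ideal.Quotient.mk I)))
  have h3 := RingHom.Flat.comp (f := (Ideal.Quotient.mk I).comp g)
    (g := algebraMap (S ⧸ I) (L ⧸ I.map (algebraMap S L))) h h2
  convert h3 using 1
  exact RingHom.ext fun r => rfl

theorem flat_descend {A O L : Type u} [CommRing A] [CommRing O] [CommRing L] [Algebra A O] (M : Submonoid A)
    [IsLocalization M O] (f : O →+* L) (h : (f.comp (algebraMap A O)).Flat) : f.Flat := by
  letI := f.toAlgebra
  letI : Algebra A L := (f.comp (algebraMap A O)).toAlgebra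
  haveI : IsScalarTower A O L := IsScalarTower.of_algebraMap_eq fun r => rfl
  haveI : Module.Flat A L := h
  exact (Module.flat_iff_of_isLocalization O M L).2 inferInstance

variable (P : Ideal R) [P.IsPrime]

/-- The diagonal point. -/
noncomputable abbrev Q : Ideal (R ⊗[K] R) := P.comap (mulHom K R)

theorem comap_inL : P = (Q K P).comap (inL K R) := by rw [Ideal.comap_comap, mul_inL, Ideal.comap_id]
theorem comap_inR : P = (Q K P).comap (inR K R) := by rw [Ideal.comap_comap, mul_inR, Ideal.comap_id]

/-- The local ring of the product at the diagonal point. -/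
abbrev BB : Type u := Localization.AtPrime (Q K P)

noncomputable abbrev bl : Localization.AtPrime P →+* BB K P := Localization.localRingHom P (Q K P) (inL K R) (comap_inL K P)
noncomputable abbrev br : Localization.AtPrime P →+* BB K P := Localization.localRingHom P (Q K P) (inR K R) (comap_inR K P)
noncomputable abbrev bμ : BB K P →+* Localization.AtPrime P := Localization.localRingHom (Q K P) P (mulHom K R) rfl

variable [Algebra.FiniteType K R] [Algebra.Smooth K R]

theorem regular_BB : IsRegularLocalRing (BB K P) := by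
  haveI : Algebra.FiniteType K (R ⊗[K] R) := Algebra.FiniteType.trans (R := K) (S := R) (A := R ⊗[K] R) inferInstance inferInstance
  haveI : Algebra.Smooth K (R ⊗[K] R) := Algebra.Smooth.comp K R (R ⊗[K] R)
  exact GrothLib.Serre.isRegularLocalRing_of_isSmoothAt (k := K) (Q K P)

theorem exists_setting : ∃ D : Setting (Localization.AtPrime P) (BB K P),
    D.il = bl K P ∧ D.ir = br K P ∧ D.μ = bμ K P ∧ IsRegular (BB K P) D.g := by
  haveI := regular_BB K P
  haveI : IsRegularLocalRing (Localization.AtPrime P) :=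
    GrothLib.Serre.isRegularLocalRing_of_isSmoothAt (k := K) P
  have hl : (bμ K P).comp (bl K P) = RingHom.id _ :=
    IsLocalization.ringHom_ext P.primeCompl (RingHom.ext fun r => by
      simp [Localization.localRingHom_to_map])
  have hr : (bμ K P).comp (br K P) = RingHom.id _ :=
    IsLocalization.ringHom_ext P.primeCompl (RingHom.ext fun r => by
      simp [Localization.localRingHom_to_map])
  obtain ⟨rs, hreg, hker⟩ := GrothLib.RegSeqLoc.exists_isRegular_ker (bμ K P)
    (fun a => ⟨bl K P a, RingHom.congr_fun hl a⟩)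
  exact ⟨⟨bl K P, br K P, bμ K P, rs, RingHom.congr_fun hl, RingHom.congr_fun hr, hker, hreg.toIsWeaklyRegular,
    RingHom.Flat.localRingHom (RingHom.flat_algebraMap_iff.2 (inferInstanceAs (Module.Flat R (R ⊗[K] R)))) _ _ _⟩,
    rfl, rfl, rfl, hreg⟩

variable (p q : Ideal R)

/-- The ideal of the product of two subvarieties. -/
noncomputable abbrev J0 : Ideal (R ⊗[K] R) := p.map (inL K R) ⊔ q.map (inR K R)

omit [Algebra.FiniteType K R] [Algebra.Smooth K R] in
theorem map_bl : (p.map (algebraMap R (Localization.AtPrime P))).map (bl K P) =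
    (p.map (inL K R)).map (algebraMap (R ⊗[K] R) (BB K P)) := by
  rw [Ideal.map_map, Ideal.map_map]
  congr 1
  ext r
  exact Localization.localRingHom_to_map P (Q K P) _ (comap_inL K P) r

omit [Algebra.FiniteType K R] [Algebra.Smooth K R] in
theorem map_br : (q.map (algebraMap R (Localization.AtPrime P))).map (br K P) =
    (q.map (inR K R)).map (algebraMap (R ⊗[K] R) (BB K P)) := by
  rw [Ideal.map_map, Ideal.map_map]
  congr 1
  ext r
  exact Localization.localRingHom_to_map P (Q K P) _ (comap_inR K P) r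

omit [Algebra.FiniteType K R] [Algebra.Smooth K R] in
theorem flat_quot_br :
    QuotFlat (bl K P) (br K P) (p.map (algebraMap R (Localization.AtPrime P))) := by
  unfold QuotFlat
  rw [map_bl]
  unfold FlatMod
  refine flat_descend P.primeCompl _ ?_
  have hc : (br K P).comp (algebraMap R (Localization.AtPrime P)) =
      (algebraMap (R ⊗[K] R) (BB K P)).comp (inR K R) :=
    RingHom.ext fun r => Localization.localRingHom_to_map P (Q K P) _ (comap_inR K P) r
  rw [RingHom.comp_assoc, hc]
  exact flat_loc_quot (Q K P).primeCompl (p.map (inL K R)) (inR K R) (flat_left_quot K R p)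

omit [Algebra.Smooth K R] in
theorem dim_product [IsAlgClosed K] [p.IsPrime] [q.IsPrime] (hp : p ≤ P) (hq : q ≤ P) :
    ringKrullDim (BB K P ⧸ ((J0 K p q).map (algebraMap (R ⊗[K] R) (BB K P)))) + ringKrullDim (R ⧸ P) =
      ringKrullDim (R ⧸ p) + ringKrullDim (R ⧸ q) ∧
    ((J0 K p q).map (algebraMap (R ⊗[K] R) (BB K P))).IsPrime := by
  haveI : Algebra.FiniteType K (R ⊗[K] R) := Algebra.FiniteType.trans (R := K) (S := R) (A := R ⊗[K] R) inferInstance inferInstance
  haveI hdom : IsDomain ((R ⧸ p) ⊗[K] (R ⧸ q)) := GrothLib.GrpSchField.isDomain_tensorProduct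
  haveI : Algebra.FiniteType K (R ⧸ p) := Algebra.FiniteType.of_surjective (Ideal.Quotient.mkₐ K p) (Ideal.Quotient.mkₐ_surjective K p)
  haveI : Algebra.FiniteType K (R ⧸ q) := Algebra.FiniteType.of_surjective (Ideal.Quotient.mkₐ K q) (Ideal.Quotient.mkₐ_surjective K q)
  let e : ((R ⊗[K] R) ⧸ J0 K p q) ≃+* (R ⧸ p) ⊗[K] (R ⧸ q) := quotEquiv K R p q
  haveI hJ : (J0 K p q).IsPrime := by
    haveI : IsDomain ((R ⊗[K] R) ⧸ J0 K p q) := e.toMulEquiv.isDomain _
    exact (Ideal.Quotient.isDomain_iff_prime _).1 inferInstance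
  have hJQ : J0 K p q ≤ Q K P := by
    refine sup_le (Ideal.map_le_iff_le_comap.2 ?_) (Ideal.map_le_iff_le_comap.2 ?_)
    · rw [← comap_inL]; exact hp
    · rw [← comap_inR]; exact hq
  have hdisj : Disjoint ((Q K P).primeCompl : Set (R ⊗[K] R)) (J0 K p q) :=
    Set.disjoint_left.2 fun a ha ha' => ha (hJQ ha')
  haveI hPl : ((J0 K p q).map (algebraMap (R ⊗[K] R) (BB K P))).IsPrime :=
    IsLocalization.isPrime_of_isPrime_disjoint (Q K P).primeCompl _ _ hJ hdisj
  refine ⟨?_, hPl⟩
  rw [GrothLib.Altitude.ringKrullDim_quotient_eq_height (Q K P) _ (J0 K p q)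
    (IsLocalization.comap_map_of_isPrime_disjoint (Q K P).primeCompl _ hJ hdisj) hJQ]
  haveI : ((Q K P).map (Ideal.Quotient.mk (J0 K p q))).IsPrime := Ideal.isPrime_map_quotientMk_of_isPrime hJQ
  have hA : ringKrullDim ((R ⊗[K] R) ⧸ J0 K p q) = ringKrullDim (R ⧸ p) + ringKrullDim (R ⧸ q) := by
    rw [ringKrullDim_eq_of_ringEquiv e]
    have h := GrothLib.DimProd.ringKrullDim_quotient_minimalPrime_tensor K (R ⧸ p) (R ⧸ q) ⊥
      (by rw [IsDomain.minimalPrimes_eq_singleton_bot]; rfl)
    rwa [ringKrullDim_eq_of_ringEquiv (RingEquiv.quotientBot _)] at h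
  have hRP : ringKrullDim (R ⧸ P) =
      ringKrullDim (((R ⊗[K] R) ⧸ J0 K p q) ⧸ (Q K P).map (Ideal.Quotient.mk (J0 K p q))) := by
    rw [ringKrullDim_eq_of_ringEquiv (DoubleQuot.quotQuotEquivQuotOfLE hJQ)]
    refine (ringKrullDim_eq_of_ringEquiv ?_).symm
    have hs : Function.Surjective ((Ideal.Quotient.mk P).comp (mulHom K R)) :=
      Ideal.Quotient.mk_surjective.comp fun r => ⟨inL K R r, RingHom.congr_fun (mul_inL K) r⟩
    exact (Ideal.quotEquivOfEq (by rw [← RingHom.comap_ker, Ideal.mk_ker])).trans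
      (RingHom.quotientKerEquivOfSurjective hs)
  rw [hRP, GrothLib.AffDom.height_add_ringKrullDim_quotient (k := K) ((R ⊗[K] R) ⧸ J0 K p q), hA]

end GrothLib.Diag
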