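import Groth.Agent.Lib.KoszulEuler.TorLen
import Mathlib.Algebra.Category.ModuleCat.ChangeOfRings
import Mathlib.Algebra.Category.ModuleCat.Abelian
import Mathlib.RingTheory.Flat.Stability

/-! Tor over `A` from a Koszul complex over an `A`-algebra `B`. -/

set_option autoImplicit false
set_option linter.style.haveILetI false
set_option maxHeartbeats 800000

universe u

open CategoryTheory CategoryTheory.Limits MonoidalCategory HomologicalComplex GrothLib.KoszulMod TensorProduct
  GrothLib.KoszulEuler

attribute [local instance] HasDerivedCategory.standard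

namespace GrothLib.Diag

/-- The augmentation of an acyclic Koszul complex is a quasi-isomorphism. -/
theorem exists_quasiIso_of_acyclic {B : Type u} [CommRing B] (Y : ModuleCat.{u} B) (l : List B)
    (hex : ∀ j : ℤ, j ≠ 0 → IsZero ((CohIII.koszulCx Y l).homology j)) :
    ∃ q : CohIII.koszulCx Y l ⟶ (single (ModuleCat.{u} B) (ComplexShape.up ℤ) 0).obj
      (ModuleCat.of B (Y ⧸ (Ideal.ofList l • (⊤ : Submodule B Y)))), QuasiIso q := by
  obtain ⟨π, hπ, hker⟩ := exists_augmentation Y l
  let K := CohIII.koszulCx Y l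
  let T := ModuleCat.of B (Y ⧸ (Ideal.ofList l • (⊤ : Submodule B Y)))
  have hg : ∀ x, π ((K.d (0 - 1) 0).hom x) = 0 := fun x => by
    rw [← LinearMap.mem_ker, hker, show (-1 : ℤ) = 0 - 1 by norm_num]
    exact LinearMap.mem_range_self _ x
  refine ⟨GrothLib.DR.toSingleMap K 0 π hg, ⟨fun j => ?_⟩⟩
  rw [quasiIsoAt_iff_isIso_homologyMap]
  by_cases hj : j = 0
  · subst hj
    haveI : Mono (homologyMap (GrothLib.DR.toSingleMap K 0 π hg) 0) := by
      rw [ModuleCat.mono_iff_injective, injective_iff_map_eq_zero]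
      intro z hz
      obtain ⟨c, rfl⟩ := (ModuleCat.epi_iff_surjective (K.homologyπ 0)).1 inferInstance z
      rw [GrothLib.DR.toSingleMap_homology_iff, ← LinearMap.mem_ker, hker] at hz
      obtain ⟨w, hw⟩ := hz
      have h2 : (K.toCycles (-1) 0).hom w = c := (ModuleCat.mono_iff_injective (K.iCycles 0)).1 inferInstance
        ((ConcreteCategory.congr_hom (K.toCycles_i (-1) 0) w).trans hw)
      rw [← h2]
      exact ConcreteCategory.congr_hom (K.toCycles_comp_homologyπ (-1) 0) w
    haveI : Epi (homologyMap (GrothLib.DR.toSingleMap K 0 π hg) 0) := by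
      rw [ModuleCat.epi_iff_surjective]
      intro z
      let S := (single (ModuleCat.{u} B) (ComplexShape.up ℤ) 0).obj T
      obtain ⟨s, rfl⟩ := (ModuleCat.epi_iff_surjective (S.homologyπ 0)).1 inferInstance z
      obtain ⟨t, ht⟩ : ∃ t, (singleObjXSelf (ComplexShape.up ℤ) 0 T).inv t = S.iCycles 0 s :=
        ⟨(singleObjXSelf (ComplexShape.up ℤ) 0 T).hom (S.iCycles 0 s), Iso.hom_inv_id_apply _ _⟩
      obtain ⟨x, hx⟩ := hπ t
      obtain ⟨c, hc⟩ := GrothLib.DR.exists_cycle K 0 x (eq_zero_out _ _ _ (Or.inl (by norm_num)) _)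
      refine ⟨K.homologyπ 0 c, ?_⟩
      refine (ConcreteCategory.congr_hom (homologyπ_naturality (GrothLib.DR.toSingleMap K 0 π hg) 0) c).trans ?_
      refine congrArg (S.homologyπ 0) ((ModuleCat.mono_iff_injective (S.iCycles 0)).1 inferInstance ?_)
      refine (ConcreteCategory.congr_hom (cyclesMap_i (GrothLib.DR.toSingleMap K 0 π hg) 0) c).trans ?_
      show (GrothLib.DR.toSingleMap K 0 π hg).f 0 (K.iCycles 0 c) = _
      rw [hc, ← ht, GrothLib.DR.toSingleMap, mkHomToSingle_f]
      show _ = _
      rw [← hx]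
      rfl
    exact isIso_of_mono_of_epi _
  · exact ⟨0, (hex j hj).eq_of_src _ _,
      ((exactAt_iff_isZero_homology _ _).1 (exactAt_single_obj _ _ _ _ hj)).eq_of_src _ _⟩

variable {A B : Type u} [CommRing A] [CommRing B] [Algebra A B]

/-- Restriction of scalars. -/
noncomputable abbrev res : ModuleCat.{u} B ⥤ ModuleCat.{u} A := ModuleCat.restrictScalars.{u} (algebraMap A B)

/-- Products of flat modules. -/
theorem flat_prod {R M N : Type u} [CommRing R] [AddCommGroup M] [Module R M] [AddCommGroup N]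
    [Module R N] [Module.Flat R M] [Module.Flat R N] : Module.Flat R (M × N) := by
  refine Module.Flat.iff_rTensor_injective'.mpr fun I => ?_
  let e := TensorProduct.prodRight R R I M N
  let e' := TensorProduct.prodRight R R R M N
  have key : ∀ z, e' (I.subtype.rTensor (M × N) z) =
      (I.subtype.rTensor M (e z).1, I.subtype.rTensor N (e z).2) := by
    intro z
    induction z with
    | zero => simp only [map_zero, Prod.fst_zero, Prod.snd_zero]; rfl
    | tmul a p => simp [e, e']
    | add a b ha hb => simp only [map_add, Prod.fst_add, Prod.snd_add, ha, hb, Prod.mk_add_mk]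
  intro x y hxy
  have h := congrArg e' hxy
  rw [key, key, Prod.mk.injEq] at h
  exact e.injective (Prod.ext
    (Module.Flat.rTensor_preserves_injective_linearMap _ I.subtype_injective h.1)
    (Module.Flat.rTensor_preserves_injective_linearMap _ I.subtype_injective h.2))

/-- A module with a tower is its restriction. -/
def resEquiv (Y : Type u) [AddCommGroup Y] [Module B Y] [Module A Y] [IsScalarTower A B Y] :
    Y ≃ₗ[A] (res (A := A)).obj (ModuleCat.of B Y) where
  toFun y := y
  invFun y := y
  left_inv _ := rfl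
  right_inv _ := rfl
  map_add' _ _ := rfl
  map_smul' a y := (algebraMap_smul B a y).symm

theorem flat_koszulCx (Y : ModuleCat.{u} B) [Module.Flat A ((res (A := A)).obj Y)] : ∀ (l : List B) (i : ℤ),
    Module.Flat A ((res (A := A)).obj ((CohIII.koszulCx Y l).X i))
  | [], i => by
    by_cases h : i = 0
    · subst h
      exact Module.Flat.of_linearEquiv ((res (A := A)).mapIso (singleObjXSelf (ComplexShape.up ℤ) 0 Y)).toLinearEquiv
    · haveI := ModuleCat.subsingleton_of_isZero ((res (A := A)).map_isZero (isZero_out Y [] i (by simp; omega)))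
      infer_instance
  | f :: l, i => by
    haveI := flat_koszulCx Y l (i + 1)
    haveI := flat_koszulCx Y l i
    let K := CohIII.koszulCx Y l
    let a := ((res (A := A)).map (i₁ K f i (i + 1) rfl)).hom
    let b := ((res (A := A)).map (i₂ K f i)).hom
    let c := ((res (A := A)).map (p₁ K f i (i + 1) rfl)).hom
    let d := ((res (A := A)).map (p₂ K f i)).hom
    haveI : Module.Flat A ((res (A := A)).obj (K.X (i + 1)) × (res (A := A)).obj (K.X i)) :=
      flat_prod
    show Module.Flat A ((res (A := A)).obj ((cone K f).X i))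
    exact Module.Flat.of_retract (c.prod d) (a.coprod b) (LinearMap.ext fun x =>
      (LinearMap.coprod_apply _ _ _).trans (decomp K f i (i + 1) rfl x).symm)

/-- Tensoring a restricted module. -/
noncomputable def resTensorIso (N : Type u) [AddCommGroup N] [Module A N] :
    res (A := A) ⋙ tensorRight (ModuleCat.of A N) ≅
      tensorRight (ModuleCat.of B (B ⊗[A] N)) ⋙ res (A := A) :=
  NatIso.ofComponents
    (fun Y =>
      letI : Module A Y := Module.compHom Y (algebraMap A B)
      haveI : IsScalarTower A B Y := ⟨fun a b y => by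
        show (a • b) • y = algebraMap A B a • b • y
        rw [Algebra.smul_def, mul_smul]⟩
      (((AlgebraTensorModule.cancelBaseChange A B B Y N).symm.restrictScalars A).trans
        (resEquiv (Y ⊗[B] (B ⊗[A] N)))).toModuleIso)
    (fun {Y Y'} g => ModuleCat.hom_ext (TensorProduct.ext' fun _ _ => rfl))

/-- Tor over `A` from an acyclic Koszul complex over `B` with flat terms. -/
theorem length_tor_of_acyclic (Y : ModuleCat.{u} B) [Module.Flat A ((res (A := A)).obj Y)] (l : List B)
    (hex : ∀ j : ℤ, j ≠ 0 → IsZero ((CohIII.koszulCx Y l).homology j)) (N : Type u) [AddCommGroup N] [Module A N]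
    (p : ℕ) :
    Module.length A (DRing.Tor A (p + 1) N
        ((res (A := A)).obj (ModuleCat.of B (Y ⧸ (Ideal.ofList l • (⊤ : Submodule B Y)))))) =
      Module.length A ((res (A := A)).obj
        ((CohIII.koszulCx (Y ⊗ ModuleCat.of B (B ⊗[A] N)) l).homology (-((p + 1 : ℕ) : ℤ)))) := by
  obtain ⟨q, hq⟩ := exists_quasiIso_of_acyclic Y l hex
  let F := (res (A := A) (B := B)).mapHomologicalComplex (ComplexShape.up ℤ)
  let Z := (res (A := A)).obj (ModuleCat.of B (Y ⧸ (Ideal.ofList l • (⊤ : Submodule B Y))))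
  let C := F.obj (CohIII.koszulCx Y l)
  let q' : C ⟶ (single (ModuleCat.{u} A) (ComplexShape.up ℤ) 0).obj Z :=
    F.map q ≫ ((singleMapHomologicalComplex (res (A := A)) (ComplexShape.up ℤ) 0).app _).hom
  haveI : QuasiIso (F.map q) := inferInstance
  haveI : QuasiIso q' := inferInstance
  let R := projectiveResolution (ModuleCat.of A N)
  have hC : GrothLib.KF.IsKFlat C := GrothLib.KF.isKFlat_of_vanishesAbove (b := 0)
    (fun i hi => (res (A := A)).map_isZero (isZero_out Y l i (Or.inl hi))) (fun i => flat_koszulCx Y l i)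
  obtain ⟨e₁⟩ := nonempty_tor_iso N (projectiveResolution (ModuleCat.of A Z)) p
  obtain ⟨e₂⟩ := @nonempty_tensor_swap _ _ _ _ _ _ (projectiveResolution (ModuleCat.of A Z)).π' R.π'
    (inferInstanceAs (QuasiIso (projectiveResolution (ModuleCat.of A Z)).π')) (inferInstanceAs (QuasiIso R.π'))
    (GrothLib.KF.isKFlat_cochainComplex _) (GrothLib.KF.isKFlat_cochainComplex _) (-((p + 1 : ℕ) : ℤ))
  obtain ⟨e₃⟩ := @nonempty_tensor_swap _ _ _ _ _ _ q' R.π' inferInstance (inferInstanceAs (QuasiIso R.π')) hC
    (GrothLib.KF.isKFlat_cochainComplex _) (-((p + 1 : ℕ) : ℤ))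
  obtain ⟨e₄⟩ := nonempty_tensor_iso Y l
  obtain ⟨e₅⟩ := nonempty_tensor_iso (Y ⊗ ModuleCat.of B (B ⊗[A] N)) l
  let NB := ModuleCat.of B (B ⊗[A] N)
  let e₆ : DRing.tensorCx C (ModuleCat.of A N) ≅ F.obj (CohIII.koszulCx (Y ⊗ NB) l) :=
    (Functor.mapHomologicalComplexCompIso (Iso.refl (res (A := A) ⋙ tensorRight (ModuleCat.of A N))) _).app _ ≪≫
    (NatIso.mapHomologicalComplex (resTensorIso (B := B) N) (ComplexShape.up ℤ)).app _ ≪≫
    ((Functor.mapHomologicalComplexCompIso (Iso.refl (tensorRight NB ⋙ res (A := A))) _).app _).symm ≪≫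
    F.mapIso ((tensorM NB).mapIso e₄.symm ≪≫
      (Functor.mapHomologicalComplexCompIso (Iso.refl (tensorRight Y ⋙ tensorRight NB)) _).app _ ≪≫
      (NatIso.mapHomologicalComplex (tensorRightTensor Y NB).symm (ComplexShape.up ℤ)).app _ ≪≫ e₅)
  refine (e₁.symm ≪≫ e₂ ≪≫ e₃.symm ≪≫ (homologyFunctor _ _ _).mapIso e₆).toLinearEquiv.length_eq.trans ?_
  exact (((CohIII.koszulCx (Y ⊗ NB) l).sc (-((p + 1 : ℕ) : ℤ))).mapHomologyIso (res (A := A))).toLinearEquiv.length_eq

end GrothLib.Diag
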