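import Groth.Agent.Lib.Diag.Affine
import Groth.Agent.Lib.IntMult3.Mult

/-! Positivity of the intersection multiplicity in affine terms. -/

set_option autoImplicit false
set_option linter.style.haveILetI false
set_option maxHeartbeats 1000000
set_option linter.unusedSectionVars false

universe u

open TensorProduct RingTheory.Sequence

namespace GrothLib.Diag

theorem dim_quot_congr {A : Type u} [CommRing A] {I J : Ideal A} (h : I = J) :
    ringKrullDim (A ⧸ I) = ringKrullDim (A ⧸ J) := by subst h; rfl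

theorem dim_quot_bot {A : Type u} [CommRing A] : ringKrullDim (A ⧸ (⊥ : Ideal A)) = ringKrullDim A :=
  ringKrullDim_eq_of_ringEquiv (RingEquiv.quotientBot A)

variable {O B : Type u} [CommRing O] [CommRing B] [IsNoetherianRing B] [IsLocalRing B]

theorem Setting.fl_T (D : Setting O B) (p q : Ideal O) (hfin : Module.length O (O ⧸ (p ⊔ q)) ≠ ⊤) :
    KoszulEuler.Good (D.T p q) D.g := by
  refine Module.length_ne_top_iff.1 ?_
  let J := p.map D.il ⊔ q.map D.ir
  show Module.length B ((B ⧸ J) ⧸ (KoszulEuler.spanL D.g • (⊤ : Submodule B (B ⧸ J)))) ≠ ⊤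
  letI : Algebra O B := D.ir.toAlgebra
  obtain ⟨e⟩ := D.nonempty_quot_equiv D.μr J
  rw [show KoszulEuler.spanL D.g = Ideal.ofList D.g from rfl]
  rw [← length_res_eq (O := O) (ModuleCat.of B ((B ⧸ J) ⧸ (Ideal.ofList D.g • (⊤ : Submodule B (B ⧸ J)))))
    (fun b m => ⟨D.μ b, by
      obtain ⟨m, rfl⟩ := Submodule.Quotient.mk_surjective _ m
      refine (sub_eq_zero.1 ((sub_smul _ _ _).symm.trans ?_)).symm
      exact (Submodule.Quotient.mk_eq_zero _).2 (Submodule.smul_mem_smul (D.sub_mem b _ rfl).2 trivial)⟩), ← e.length_eq]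
  rwa [Ideal.map_sup, D.map_μ_il, D.map_μ_ir]

theorem Setting.chi_props (D : Setting O B) (hreg : IsRegular B D.g) (p q : Ideal O)
    (hfin : Module.length O (O ⧸ (p ⊔ q)) ≠ ⊤) : KoszulEuler.Props (D.T p q) D.g :=
  KoszulEuler.chi_props _ (fun a ha => IsLocalRing.le_maximalIdeal (J := Ideal.ofList D.g)
      (fun h => hreg.top_ne_smul (by rw [h, Submodule.top_smul])) (Ideal.subset_span ha)) _
    (inferInstanceAs (Module.Finite B (B ⧸ (p.map D.il ⊔ q.map D.ir)))) (D.fl_T p q hfin)

variable (K : Type u) [Field K] {R : Type u} [CommRing R] [Algebra K R] [Algebra.FiniteType K R] [Algebra.Smooth K R]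
  [IsDomain R] (P : Ideal R) [P.IsPrime]

theorem exists_nat_dim (A : Type u) [CommRing A] [Algebra K A] [Algebra.FiniteType K A] [Nontrivial A] :
    ∃ m : ℕ, ringKrullDim A = m := by
  obtain ⟨s, g, hg⟩ := Algebra.FiniteType.iff_quotient_mvPolynomial''.1 ‹Algebra.FiniteType K A›
  have h := ringKrullDim_le_of_surjective g.toRingHom hg
  rw [MvPolynomial.ringKrullDim_of_isNoetherianRing, ringKrullDim_eq_zero_of_field, zero_add] at h
  obtain ⟨b, hb⟩ := WithBot.ne_bot_iff_exists.1 (ne_bot_of_le_ne_bot (WithBot.zero_ne_bot (α := ℕ∞)) (ringKrullDim_nonneg_of_nontrivial (R := A)))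
  rw [← hb] at h
  induction b using ENat.recTopCoe with
  | top => exact absurd (WithBot.coe_le_coe.1 h) (by simp)
  | coe b => exact ⟨b, hb.symm⟩

/-- Transport along an isomorphism. -/
noncomputable def Setting.transport {O O' B : Type u} [CommRing O] [CommRing O'] [CommRing B] (D : Setting O B)
    (e : O' ≃+* O) : Setting O' B where
  il := D.il.comp e.toRingHom
  ir := D.ir.comp e.toRingHom
  μ := e.symm.toRingHom.comp D.μ
  g := D.g
  μl a := by simp [D.μl]
  μr a := by simp [D.μr]
  ker := by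
    rw [← D.ker]
    ext b
    simp
  reg := D.reg
  flat := RingHom.Flat.comp (RingHom.Flat.of_bijective (f := e.toRingHom) e.bijective) D.flat

theorem quotFlat_comp {O O' B : Type u} [CommRing O] [CommRing O'] [CommRing B] {il ir : O →+* B} (e : O' ≃+* O)
    {p : Ideal O} {p' : Ideal O'} (h : p'.map e.toRingHom = p) (hf : QuotFlat il ir p) :
    QuotFlat (il.comp e.toRingHom) (ir.comp e.toRingHom) p' := by
  unfold QuotFlat at hf ⊢
  rw [← Ideal.map_map, h]
  unfold FlatMod at hf ⊢
  rw [← RingHom.comp_assoc]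
  exact RingHom.Flat.comp (RingHom.Flat.of_bijective (f := e.toRingHom) e.bijective) hf

/-- Positivity. -/
theorem chi_pos_affine [IsAlgClosed K] (p q : Ideal R) [p.IsPrime] [q.IsPrime] (hp : p ≤ P) (hq : q ≤ P)
    (O : Type u) [CommRing O] [Algebra R O] [IsLocalization.AtPrime O P]
    (hfin : Module.length O (O ⧸ (p.map (algebraMap R O) ⊔ q.map (algebraMap R O))) ≠ ⊤)
    (hprop : ringKrullDim R + ringKrullDim (R ⧸ P) ≤ ringKrullDim (R ⧸ p) + ringKrullDim (R ⧸ q)) :
    0 < IntMult.chi O (O ⧸ q.map (algebraMap R O)) (O ⧸ p.map (algebraMap R O)) := by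
  haveI := regular_BB K P
  obtain ⟨D₀, hil, hir, hμ, hreg⟩ := exists_setting K P
  let ea := IsLocalization.algEquiv P.primeCompl O (Localization.AtPrime P)
  let e : O ≃+* Localization.AtPrime P := ea.toRingEquiv
  let D := D₀.transport e
  let pO := p.map (algebraMap R O)
  let qO := q.map (algebraMap R O)
  have hmap : ∀ a : Ideal R, (a.map (algebraMap R O)).map e.toRingHom = a.map (algebraMap R (Localization.AtPrime P)) := by
    intro a
    rw [Ideal.map_map]
    congr 1
    exact RingHom.ext fun r => ea.commutes r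
  rw [D.chi_eq pO qO (quotFlat_comp e (hmap p) (by rw [hil, hir]; exact flat_quot_br K P p))]
  have hlen := ringKrullDim_add_length_eq_ringKrullDim_of_isRegular D.g hreg
  obtain ⟨hsup, h0, hz⟩ := D.chi_props hreg pO qO hfin
  refine lt_of_le_of_ne h0 fun h => ?_
  have hlt := hz.1 h.symm
  rw [Module.supportDim_quotient_eq_ringKrullDim] at hlt
  have hJ : pO.map D.il ⊔ qO.map D.ir = (J0 K p q).map (algebraMap (R ⊗[K] R) (BB K P)) := by
    show pO.map (D₀.il.comp e.toRingHom) ⊔ qO.map (D₀.ir.comp e.toRingHom) = _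
    rw [← Ideal.map_map, ← Ideal.map_map, hmap, hmap, hil, hir, map_bl, map_br, J0, Ideal.map_sup]
  rw [dim_quot_congr hJ] at hlt
  obtain ⟨hd, hPJ⟩ := dim_product K P p q hp hq
  obtain ⟨hd0, -⟩ := dim_product K P (⊥ : Ideal R) (⊥ : Ideal R) bot_le bot_le
  have hB : ringKrullDim (BB K P ⧸ (J0 K (⊥ : Ideal R) (⊥ : Ideal R)).map (algebraMap (R ⊗[K] R) (BB K P))) =
      ringKrullDim (BB K P) :=
    (dim_quot_congr (by simp [J0])).trans dim_quot_bot
  rw [hB, dim_quot_bot] at hd0
  have hO : ringKrullDim (BB K P ⧸ Ideal.ofList D.g) = ringKrullDim O := by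
    rw [ringKrullDim_eq_of_ringEquiv ((Ideal.quotEquivOfEq D.ker.symm).trans
      (RingHom.quotientKerEquivOfSurjective (f := D.μ) fun a => ⟨_, D.μl a⟩))]
  have hOP : ringKrullDim O + ringKrullDim (R ⧸ P) = ringKrullDim R := by
    rw [IsLocalization.AtPrime.ringKrullDim_eq_height P O]
    exact GrothLib.AffDom.height_add_ringKrullDim_quotient (k := K) R P
  obtain ⟨n, hn⟩ := exists_nat_dim K R
  haveI : Nontrivial (R ⧸ P) := Ideal.Quotient.nontrivial_iff.2 Ideal.IsPrime.ne_top'
  haveI : Nontrivial (R ⧸ p) := Ideal.Quotient.nontrivial_iff.2 Ideal.IsPrime.ne_top'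
  haveI : Nontrivial (R ⧸ q) := Ideal.Quotient.nontrivial_iff.2 Ideal.IsPrime.ne_top'
  haveI : Algebra.FiniteType K (R ⧸ P) := Algebra.FiniteType.of_surjective (Ideal.Quotient.mkₐ K P) (Ideal.Quotient.mkₐ_surjective K P)
  haveI : Algebra.FiniteType K (R ⧸ p) := Algebra.FiniteType.of_surjective (Ideal.Quotient.mkₐ K p) (Ideal.Quotient.mkₐ_surjective K p)
  haveI : Algebra.FiniteType K (R ⧸ q) := Algebra.FiniteType.of_surjective (Ideal.Quotient.mkₐ K q) (Ideal.Quotient.mkₐ_surjective K q)
  obtain ⟨e, he⟩ := exists_nat_dim K (R ⧸ P)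
  obtain ⟨b, hb⟩ := exists_nat_dim K (R ⧸ p)
  obtain ⟨c, hc⟩ := exists_nat_dim K (R ⧸ q)
  obtain ⟨mo, hmo⟩ : ∃ m : ℕ, ringKrullDim O = m := by
    refine ⟨n - e, ?_⟩
    rw [hn, he] at hOP
    revert hOP
    generalize ringKrullDim O = z
    intro hOP
    induction z using WithBot.recBotCoe with
    | bot => rw [WithBot.bot_add] at hOP; exact absurd hOP.symm WithBot.coe_ne_bot
    | coe z =>
      induction z using ENat.recTopCoe with
      | top =>
        rw [← WithBot.coe_natCast, ← WithBot.coe_add, top_add] at hOP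
        exact absurd (WithBot.coe_inj.1 hOP) (ENat.natCast_ne_top n).symm
      | coe z =>
        have : z + e = n := by exact_mod_cast hOP
        rw [show n - e = z by omega]
        rfl
  rw [hmo, hn, he] at hOP
  rw [hn, he, hb, hc] at hprop
  rw [hn, he] at hd0
  rw [he, hb, hc] at hd
  rw [hO, hmo] at hlen
  rw [← hlen] at hd0
  have e1 : mo + e = n := by exact_mod_cast hOP
  have e2 : mo + D.g.length + e = n + n := by exact_mod_cast hd0
  have e3 : n + e ≤ b + c := by exact_mod_cast hprop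
  have e4 : b + c < D.g.length + e := by
    revert hlt hd
    generalize ringKrullDim (BB K P ⧸ (J0 K p q).map (algebraMap (R ⊗[K] R) (BB K P))) = z
    intro hlt hd
    induction z using WithBot.recBotCoe with
    | bot => rw [WithBot.bot_add] at hd; exact absurd hd.symm (by exact_mod_cast WithBot.natCast_ne_bot (b + c))
    | coe z =>
      induction z using ENat.recTopCoe with
      | top => exact absurd (WithBot.coe_lt_coe.1 hlt) not_top_lt
      | coe z =>
        have h1 : z + e = b + c := by exact_mod_cast hd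
        have h2 : z < D.g.length := by exact_mod_cast hlt
        omega
  omega

end GrothLib.Diag
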